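import Groth.Agent.GRingLib.RegHom
import Groth.Agent.GeomRedFibLib.SepAlg
import Groth.Agent.CatLib.CplEquiv
import Mathlib.RingTheory.LocalRing.ResidueField.Fiber

/-!
# Regularity through maps with separable algebraic fibres
-/

set_option autoImplicit false
set_option linter.style.haveILetI false
set_option synthInstance.maxHeartbeats 400000
set_option maxHeartbeats 1600000

universe u

open TensorProduct IsLocalRing GeomRedFibLib CAlg

namespace HensGRingLib

/-- A regular map followed by an isomorphism is regular. -/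
theorem isRegularHom_of_algEquiv {A C C' : Type u} [CommRing A] [CommRing C] [CommRing C'] [Algebra A C]
    [Algebra A C'] [IsNoetherianRing C] (e : C ≃ₐ[A] C') (h : IsRegularHom A C) : IsRegularHom A C' := by
  letI := e.toRingEquiv.toRingHom.toAlgebra
  haveI : IsScalarTower A C C' := IsScalarTower.of_algebraMap_eq fun a => (e.commutes a).symm
  haveI : IsLocalization (⊥ : Submonoid C) C := IsLocalization.self (by simp)
  haveI : IsLocalization (⊥ : Submonoid C) C' := IsLocalization.isLocalization_of_algEquiv ⊥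
    (AlgEquiv.ofRingEquiv (f := e.toRingEquiv) fun _ => rfl : C ≃ₐ[C] C')
  haveI : IsNoetherianRing C' := isNoetherianRing_of_ringEquiv C e.toRingEquiv
  exact GRingLib.isRegularHom_comp A C C' h (GRingLib.isRegularHom_of_isLocalization C C' ⊥)

/-- Completions along a map that is bijective modulo the powers of the maximal ideals. -/
theorem exists_cplAlgEquiv (R S : Type u) [CommRing R] [IsLocalRing R] [CommRing S] [IsLocalRing S]
    [Algebra R S] [Module.FaithfullyFlat R S]
    (hm : (maximalIdeal R).map (algebraMap R S) = maximalIdeal S)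
    (hsurj : ∀ (n : ℕ) (b : S), ∃ a : R, b - algebraMap R S a ∈ maximalIdeal S ^ n) :
    Nonempty (EGA4.Cpl R ≃ₐ[R] EGA4.Cpl S) := by
  have hle : ∀ n, maximalIdeal R ^ n ≤ (maximalIdeal S ^ n).comap (algebraMap R S) := fun n => by
    rw [← hm, ← Ideal.map_pow]; exact Ideal.le_comap_map
  have hbij : ∀ n, Function.Bijective (Ideal.quotientMap (maximalIdeal S ^ n) (algebraMap R S) (hle n)) := by
    refine fun n => ⟨Ideal.quotientMap_injective' ?_, fun y => ?_⟩
    · rw [← hm, ← Ideal.map_pow, Ideal.comap_map_eq_self_of_faithfullyFlat]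
    · obtain ⟨b, rfl⟩ := Ideal.Quotient.mk_surjective y
      obtain ⟨a, ha⟩ := hsurj n b
      exact ⟨Ideal.Quotient.mk _ a, by rw [Ideal.quotientMap_mk]; exact (Ideal.Quotient.eq.2 ha).symm⟩
  let φ : ∀ n, EGA4.Cpl R →+* S ⧸ maximalIdeal S ^ n := fun n =>
    (Ideal.quotientMap (maximalIdeal S ^ n) (algebraMap R S) (hle n)).comp
      (AdicCompletion.evalₐ (maximalIdeal R) n).toRingHom
  have hφ : ∀ {m n : ℕ} (h : m ≤ n), (Ideal.Quotient.factorPow (maximalIdeal S) h).comp (φ n) = φ m := by
    intro m n h
    refine RingHom.ext fun x => ?_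
    induction x using AdicCompletion.induction_on with
    | _ f =>
      simp only [φ, RingHom.comp_apply, AlgHom.toRingHom_eq_coe, RingHom.coe_coe, AdicCompletion.evalₐ_mk,
        Ideal.quotientMap_mk, Ideal.Quotient.factor_mk]
      have h1 := SModEq.sub_mem.mp (f.2 h)
      rw [smul_eq_mul, Ideal.mul_top] at h1
      rw [Ideal.Quotient.eq, ← map_sub]
      exact hle m (neg_sub (f.1 m) (f.1 n) ▸ neg_mem h1)
  let F := AdicCompletion.liftRingHom (maximalIdeal S) φ hφ
  have hF : ∀ n x, AdicCompletion.evalₐ (maximalIdeal S) n (F x) = φ n x := fun n x =>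
    AdicCompletion.evalₐ_liftRingHom _ _ _ _ _
  obtain ⟨E⟩ : Nonempty {E : EGA4.Cpl R →+* EGA4.Cpl S // Function.Bijective E ∧ E = F} := by
    refine ⟨⟨F, ⟨fun x y hxy => AdicCompletion.ext_evalₐ fun n => (hbij n).1 ?_, ?_⟩, rfl⟩⟩
    · have h := congrArg (AdicCompletion.evalₐ (maximalIdeal S) n) hxy
      rw [hF, hF] at h
      exact h
    · intro y
      choose a ha using fun n => (hbij n).2 (AdicCompletion.evalₐ (maximalIdeal S) n y)
      have hcompat : ∀ {m n : ℕ} (h : m ≤ n), Ideal.Quotient.factorPow (maximalIdeal R) h (a n) = a m := by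
        intro m n h
        refine (hbij m).1 ?_
        rw [ha m]
        obtain ⟨r, hr⟩ := Ideal.Quotient.mk_surjective (a n)
        have h1 := congrArg (Ideal.Quotient.factorPow (maximalIdeal S) h) (ha n)
        rw [← hr, Ideal.quotientMap_mk, Ideal.Quotient.factor_mk] at h1
        rw [← hr, Ideal.Quotient.factor_mk, Ideal.quotientMap_mk, h1]
        induction y using AdicCompletion.induction_on with
        | _ f =>
          simp only [AdicCompletion.evalₐ_mk, Ideal.Quotient.factor_mk]
          have h2 := SModEq.sub_mem.mp (f.2 h)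
          rw [smul_eq_mul, Ideal.mul_top] at h2
          exact Ideal.Quotient.eq.2 (neg_sub (f.1 m) (f.1 n) ▸ neg_mem h2)
      choose r hr using fun n => Ideal.Quotient.mk_surjective (a n)
      let x : EGA4.Cpl R := AdicCompletion.mk (maximalIdeal R) R ⟨r, fun {m n} h => by
        rw [SModEq.sub_mem, smul_eq_mul, Ideal.mul_top, ← Ideal.Quotient.eq, hr, ← hcompat h, ← hr,
          Ideal.Quotient.factor_mk]⟩
      refine ⟨x, AdicCompletion.ext_evalₐ fun n => ?_⟩
      rw [hF]
      show Ideal.quotientMap _ _ (hle n) (AdicCompletion.evalₐ (maximalIdeal R) n x) = _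
      rw [show AdicCompletion.evalₐ (maximalIdeal R) n x = Ideal.Quotient.mk _ (r n) from
        AdicCompletion.evalₐ_mk _ _ _, hr, ha]
  refine ⟨AlgEquiv.ofBijective (⟨E.1, fun a => ?_⟩ : EGA4.Cpl R →ₐ[R] EGA4.Cpl S) E.2.1⟩
  show E.1 (algebraMap R (EGA4.Cpl R) a) = algebraMap R (EGA4.Cpl S) a
  rw [E.2.2]
  refine AdicCompletion.ext_evalₐ fun n => ?_
  rw [hF, IsScalarTower.algebraMap_apply R S (EGA4.Cpl S)]
  show Ideal.quotientMap _ _ (hle n) (AdicCompletion.evalₐ (maximalIdeal R) n (algebraMap R (EGA4.Cpl R) a)) = _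
  rw [AlgHom.commutes, AlgHom.commutes]
  rfl

/-- Geometric regularity passes along flat surjections and separable algebraic extensions of the base. -/
theorem isGeometricallyRegular_of_flat_surjective (k k' X Y : Type u) [Field k] [Field k'] [Algebra k k']
    [Algebra.IsSeparable k k'] [CommRing X] [CommRing Y] [IsNoetherianRing X] [IsNoetherianRing Y] [Algebra k X]
    [Algebra k Y] [Algebra k' Y] [IsScalarTower k k' Y] (θ : X →ₐ[k] Y) (hθs : Function.Surjective θ)
    (hθf : θ.toRingHom.Flat) (h : CAlg.IsGeometricallyRegular k X) : CAlg.IsGeometricallyRegular k' Y := by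
  have hP : ∀ (R S : Type u) [CommRing R] [CommRing S], (R ≃+* S) → RegLoc R → RegLoc S :=
    fun R S _ _ e h => isFlatLocalProp_regular.congr R S e h
  intro L _ _ hL
  haveI := hL
  haveI := isNoetherianRing_finite_bc k' L (Y)
  rw [GeomRedFibLib.isRegularRing_iff]
  refine ringP_of_sep_down (P := RegLoc) hP k k' (Y) (fun L' _ _ hL' => ?_) L
  let ρ : L' ⊗[k] X →+* L' ⊗[k] Y :=
    (Algebra.TensorProduct.map (AlgHom.id k L') θ).toRingHom
  have hρs : Function.Surjective ρ := fun z => by
    induction z using TensorProduct.induction_on with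
    | zero => exact ⟨0, map_zero _⟩
    | add x y hx hy =>
      obtain ⟨u, rfl⟩ := hx
      obtain ⟨v, rfl⟩ := hy
      exact ⟨u + v, map_add _ u v⟩
    | tmul x y =>
      obtain ⟨u, rfl⟩ := hθs y
      exact ⟨x ⊗ₜ u, Algebra.TensorProduct.map_tmul _ _ _ _⟩
  have hρf : RingHom.Flat (R := L' ⊗[k] X) (S := L' ⊗[k] Y) ρ := by
    have h1 : ρ = (Algebra.TensorProduct.comm k (Y) L').toRingEquiv.toRingHom.comp
        (((Algebra.TensorProduct.map θ (AlgHom.id k L')).toRingHom).comp
          (Algebra.TensorProduct.comm k L' (X)).toRingEquiv.toRingHom) := by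
      refine RingHom.ext fun z => ?_
      induction z using TensorProduct.induction_on with
      | zero => simp
      | add x y hx hy => rw [map_add, map_add, hx, hy]
      | tmul a b => simp [ρ]
    rw [h1]
    exact RingHom.Flat.comp (RingHom.Flat.comp
      (RingHom.Flat.of_bijective (Algebra.TensorProduct.comm k L' (X)).bijective)
      (flat_map_tensor k _ _ L' θ hθf))
      (RingHom.Flat.of_bijective (Algebra.TensorProduct.comm k (Y) L').bijective)
  haveI := hL'
  haveI := isNoetherianRing_finite_bc k L' (X)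
  intro q _
  obtain ⟨σ⟩ := exists_locEquiv (R := L' ⊗[k] X) (S := L' ⊗[k] Y) ρ hρf
    (RingHom.surjectiveOnStalks_of_surjective (R := L' ⊗[k] X)
      (S := L' ⊗[k] Y) (f := ρ) hρs) q
  exact hP _ _ σ ((GeomRedFibLib.isRegularRing_iff _).1 (h L' hL') (q.comap ρ))


/-- Geometric regularity of fibres goes down to a prime with separable algebraic residue field over a
point with reduced zero-dimensional fibre. -/
theorem isGeometricallyRegular_fiber_of_separable (A B C : Type u) [CommRing A] [CommRing B] [CommRing C]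
    [Algebra A B] [Algebra B C] [Algebra A C] [IsScalarTower A B C] (p : Ideal A) [p.IsPrime] (Q : Ideal B)
    [Q.IsPrime] [IsReduced (p.Fiber B)] [Ring.KrullDimLE 0 (p.Fiber B)] [Algebra p.ResidueField Q.ResidueField]
    [IsScalarTower A p.ResidueField Q.ResidueField] [Algebra.IsSeparable p.ResidueField Q.ResidueField]
    [IsNoetherianRing C]
    (h : CAlg.IsGeometricallyRegular p.ResidueField (p.Fiber C)) :
    CAlg.IsGeometricallyRegular Q.ResidueField (Q.Fiber C) := by
  let g₀ : p.Fiber B →ₐ[p.ResidueField] Q.ResidueField :=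
    Algebra.TensorProduct.lift (Algebra.ofId _ _) (IsScalarTower.toAlgHom A B Q.ResidueField) fun _ _ => .all _ _
  letI := (Algebra.TensorProduct.includeRight (R := A) (A := p.ResidueField) (B := B)).toRingHom.toAlgebra
  let g : p.Fiber B →ₐ[B] Q.ResidueField :=
    { g₀.toRingHom with
      commutes' := fun b => by
        show g₀ ((1 : p.ResidueField) ⊗ₜ[A] b) = algebraMap B Q.ResidueField b
        simp [g₀] }
  have hgflat : g.toRingHom.Flat := by
    letI := g.toRingHom.toAlgebra
    exact flat_of_reduced_dim_zero (p.Fiber B) Q.ResidueField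
  have hgsurj : Function.Surjective g := by
    haveI : Algebra.IsAlgebraic p.ResidueField Q.ResidueField := inferInstance
    let L := g₀.range.toIntermediateField' (Subalgebra.isField_of_algebraic g₀.range)
    intro z
    have hB : ∀ b, algebraMap B Q.ResidueField b ∈ L := fun b => ⟨(1 : p.ResidueField) ⊗ₜ[A] b, g.commutes b⟩
    obtain ⟨a, s, -, rfl⟩ := IsFractionRing.div_surjective (A := B ⧸ Q) z
    obtain ⟨a, rfl⟩ := Ideal.Quotient.mk_surjective a
    obtain ⟨s, rfl⟩ := Ideal.Quotient.mk_surjective s
    obtain ⟨u, hu⟩ := L.div_mem (hB a) (hB s)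
    exact ⟨u, hu⟩
  let c : B ⊗[A] p.ResidueField ≃ₐ[B] p.Fiber B :=
    AlgEquiv.ofRingEquiv (f := (Algebra.TensorProduct.comm A B p.ResidueField).toRingEquiv) fun b => by
      show (Algebra.TensorProduct.comm A B p.ResidueField) (b ⊗ₜ[A] (1 : p.ResidueField)) = (1 : p.ResidueField) ⊗ₜ[A] b
      simp
  let e : p.Fiber C ≃+* p.Fiber B ⊗[B] C :=
    (((Algebra.TensorProduct.comm A p.ResidueField C).toRingEquiv.trans
      (Algebra.TensorProduct.cancelBaseChange A B B C p.ResidueField).symm.toRingEquiv).trans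
      (Algebra.TensorProduct.congr (AlgEquiv.refl (R := B) (A₁ := C)) c).toRingEquiv).trans
      (Algebra.TensorProduct.comm B C (p.Fiber B)).toRingEquiv
  let θ₀ : p.Fiber C →+* Q.Fiber C :=
    (Algebra.TensorProduct.map g (AlgHom.id B C)).toRingHom.comp e.toRingHom
  let θ : p.Fiber C →ₐ[p.ResidueField] Q.Fiber C :=
    { θ₀ with
      commutes' := fun x => by
        show θ₀ (x ⊗ₜ[A] (1 : C)) = (algebraMap p.ResidueField Q.ResidueField x) ⊗ₜ[B] (1 : C)
        have h0 : g (x ⊗ₜ[A] (1 : B)) = algebraMap p.ResidueField Q.ResidueField x := g₀.commutes x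
        simp [θ₀, e, c, h0] }
  have hθflat : θ.toRingHom.Flat :=
    RingHom.Flat.comp (RingHom.Flat.of_bijective e.bijective) (flat_map_tensor B _ _ C g hgflat)
  have hθsurj : Function.Surjective θ := by
    have h1 : Function.Surjective (Algebra.TensorProduct.map g (AlgHom.id B C)) := fun z => by
      induction z using TensorProduct.induction_on with
      | zero => exact ⟨0, map_zero _⟩
      | add x y hx hy =>
        obtain ⟨u, rfl⟩ := hx
        obtain ⟨v, rfl⟩ := hy
        exact ⟨u + v, map_add _ u v⟩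
      | tmul x y =>
        obtain ⟨u, rfl⟩ := hgsurj x
        exact ⟨u ⊗ₜ y, Algebra.TensorProduct.map_tmul _ _ _ _⟩
    exact h1.comp e.surjective
  haveI := isNoetherianRing_fiber A C p
  haveI := isNoetherianRing_fiber B C Q
  exact isGeometricallyRegular_of_flat_surjective p.ResidueField Q.ResidueField (p.Fiber C) (Q.Fiber C) θ
    hθsurj hθflat h

end HensGRingLib
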