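import Groth.Agent.HensGRingLib.Main
import Groth.Agent.GRingFinLib.GRing
import Groth.Agent.HenselLib.Local
import Groth.Agent.S2617
import Groth.Agent.S2701

/-!
# Henselian local G-rings are J-2
-/

set_option autoImplicit false
set_option linter.style.haveILetI false

universe u

open IsLocalRing

namespace HensGRingLib

/-- A finite domain over a Henselian local ring is local. -/
theorem isLocalRing_of_finite_domain (R B : Type u) [CommRing R] [HenselianLocalRing R] [CommRing B] [IsDomain B]
    [Algebra R B] [Module.Finite R B] : IsLocalRing B := by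
  classical
  obtain ⟨ι, hι, L, hL, hloc, ⟨e⟩⟩ := HenselLib.exists_pi_local (R := R) B
  haveI := fun i => hloc i
  haveI : IsDomain (Π i, L i) := e.symm.toMulEquiv.isDomain B
  obtain ⟨i⟩ : Nonempty ι := by
    by_contra h
    rw [not_nonempty_iff] at h
    exact one_ne_zero (Subsingleton.elim (1 : Π i, L i) 0)
  have huniq : ∀ j, j = i := fun j => by
    by_contra hne
    have hmul : (Pi.single j 1 : Π i, L i) * Pi.single i 1 = 0 := funext fun l => by
      by_cases h : l = j
      · subst h; simp [hne]
      · simp [h]
    rcases mul_eq_zero.1 hmul with h | h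
    · exact one_ne_zero (α := L j) (by simpa using congrFun h j)
    · exact one_ne_zero (α := L i) (by simpa using congrFun h i)
  let f : B →+* L i := (Pi.evalRingHom L i).comp e.toRingHom
  have hf : Function.Bijective f := by
    refine ⟨fun x y h => e.injective (funext fun j => ?_), fun z => ?_⟩
    · obtain rfl := huniq j
      exact h
    · refine ⟨e.symm (Pi.single i z), ?_⟩
      simp [f]
  exact (RingEquiv.ofBijective f hf).symm.isLocalRing

/-- Henselian local G-rings are J-2. -/
theorem isJ2_of_henselian_gring (R : Type u) [CommRing R] [HenselianLocalRing R] (h : CAlg.IsGRing R) :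
    EGA4.IsJ2 R := by
  haveI := h.1
  refine (Groth.Agent.S2617.result R).2 fun B _ _ _ hB => ?_
  haveI := hB
  haveI := isLocalRing_of_finite_domain R B
  have hG := GRingFinLib.isGRing_of_finite R B h
  haveI := hG.1
  refine ⟨_, Groth.Agent.S2701.result B (Groth.Agent.S0600.result B hG _), ⟨⟨⊥, Ideal.isPrime_bot⟩, ?_⟩, le_rfl⟩
  haveI : IsLocalization (nonZeroDivisors B) (Localization.AtPrime (⊥ : Ideal B)) := by
    simpa [Ideal.primeCompl_bot] using Localization.isLocalization (M := (⊥ : Ideal B).primeCompl)
  haveI : IsFractionRing B (Localization.AtPrime (⊥ : Ideal B)) := ‹_›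
  have hF : IsField (Localization.AtPrime (⊥ : Ideal B)) :=
    (IsLocalization.algEquiv (nonZeroDivisors B) (Localization.AtPrime (⊥ : Ideal B))
      (FractionRing B)).toMulEquiv.isField (Field.toIsField _)
  letI := hF.toField
  exact (inferInstance : IsRegularLocalRing (Localization.AtPrime (⊥ : Ideal B)))

end HensGRingLib
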