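import Groth.Agent.HensGRingLib.Main
import Groth.Agent.AdicFSLib.Completion
import Groth.Agent.S9314
import Groth.Agent.S1962
import Groth.Agent.S2817
import Groth.Agent.S0539
import Groth.Agent.S0540

/-!
# Formal fibres of strict henselizations
-/

set_option autoImplicit false
set_option linter.style.haveILetI false
set_option synthInstance.maxHeartbeats 400000
set_option maxHeartbeats 1600000

universe u

open TensorProduct IsLocalRing GeomRedFibLib CAlg

namespace HensGRingLib

theorem isRegularHom_cpl_strictHenselization (R S : Type u) [CommRing R] [IsLocalRing R] [IsNoetherianRing R]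
    [CommRing S] [IsLocalRing S] [Algebra R S] [IsLocalHom (algebraMap R S)] [Hensel.IsStrictHenselization R S]
    (hR : IsRegularHom R (EGA4.Cpl R)) : IsRegularHom S (EGA4.Cpl S) := by
  haveI : Module.FaithfullyFlat R S := Groth.Agent.S0539.result R S
  haveI : IsNoetherianRing S := (Groth.Agent.S0540.result R S).1 inferInstance
  haveI := GeomRedFibLib.isNoetherianRing_cpl S
  haveI : Algebra.FormallyEtale R S := Groth.Agent.S1962.result R S
  have hfs : CAlgX.IsAdicFormallySmooth R S (maximalIdeal S) := fun C _ _ J hJ ψ _ =>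
    Algebra.FormallySmooth.comp_surjective R S J hJ ψ
  haveI : IsLocalHom (algebraMap R (EGA4.Cpl S)) := by
    haveI : Module.FaithfullyFlat S (EGA4.Cpl S) := GeomRedFibLib.faithfullyFlat_hat S
    haveI : Module.FaithfullyFlat R (EGA4.Cpl S) := Module.FaithfullyFlat.trans R S (EGA4.Cpl S)
    exact ⟨fun a ha => by
      by_contra hc
      obtain ⟨⟨P, hP⟩, hPm⟩ := PrimeSpectrum.comap_surjective_of_faithfullyFlat (A := R) (B := EGA4.Cpl S)
        ⟨maximalIdeal R, inferInstance⟩
      have h1 : a ∈ (⟨P, hP⟩ : PrimeSpectrum (EGA4.Cpl S)).asIdeal.comap (algebraMap R (EGA4.Cpl S)) :=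
        (congrArg PrimeSpectrum.asIdeal hPm).ge hc
      exact hP.ne_top (Ideal.eq_top_of_isUnit_mem _ h1 ha)⟩
  have h' : IsRegularHom R (EGA4.Cpl S) := Groth.Agent.S9314.result hR (AdicFSLib.adicFS_cpl_target hfs)
  haveI : Module.FaithfullyFlat S (EGA4.Cpl S) := GeomRedFibLib.faithfullyFlat_hat S
  refine ⟨inferInstance, fun Q _ => ⟨isNoetherianRing_fiber S (EGA4.Cpl S) Q, ?_⟩⟩
  let p := Q.comap (algebraMap R S)
  letI : Algebra p.ResidueField Q.ResidueField := (Ideal.ResidueField.map p Q (algebraMap R S) rfl).toAlgebra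
  haveI : IsScalarTower R p.ResidueField Q.ResidueField := .of_algebraMap_eq fun r ↦
    ((Ideal.ResidueField.map_algebraMap p Q _ rfl r).trans
      (IsScalarTower.algebraMap_apply R S Q.ResidueField r).symm).symm
  obtain ⟨n, K, hF, hA, hsep, ⟨e⟩⟩ := Groth.Agent.S2817.result R S p
  haveI : IsReduced (p.Fiber S) := isReduced_of_injective e e.injective
  haveI : IsArtinianRing (Π i, K i) := inferInstance
  haveI : IsArtinianRing (p.Fiber S) := e.symm.surjective.isArtinianRing (f := e.symm.toRingEquiv.toRingHom)
  let g : p.Fiber S →ₐ[p.ResidueField] Q.ResidueField :=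
    Algebra.TensorProduct.lift (Algebra.ofId _ _) (IsScalarTower.toAlgHom R S Q.ResidueField) fun _ _ => .all _ _
  haveI : Algebra.IsSeparable p.ResidueField Q.ResidueField := by
    let G : (Π i, K i) →ₐ[p.ResidueField] Q.ResidueField := g.comp e.symm.toAlgHom
    have hfield : IsField G.range := by
      haveI : IsArtinianRing G.range :=
        Function.Surjective.isArtinianRing (f := G.rangeRestrict.toRingHom) G.rangeRestrict_surjective
      exact IsArtinianRing.isField_of_isDomain G.range
    let L := G.range.toIntermediateField' hfield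
    refine isSeparable_of_pi_surjective hsep G fun z => ?_
    have hB : ∀ b, algebraMap S Q.ResidueField b ∈ L := fun b =>
      ⟨e ((1 : p.ResidueField) ⊗ₜ[R] b), by simp [G, g]⟩
    obtain ⟨a, s, -, rfl⟩ := IsFractionRing.div_surjective (A := S ⧸ Q) z
    obtain ⟨a, rfl⟩ := Ideal.Quotient.mk_surjective a
    obtain ⟨s, rfl⟩ := Ideal.Quotient.mk_surjective s
    obtain ⟨u, hu⟩ := L.div_mem (hB a) (hB s)
    exact ⟨u, hu⟩
  exact isGeometricallyRegular_fiber_of_separable R S (EGA4.Cpl S) p Q (h'.2 p).2

end HensGRingLib
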