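import Groth.Agent.HensGRingLib.Basic
import Groth.Agent.S0507
import Groth.Agent.S0509
import Groth.Agent.S0510
import Groth.Agent.S0511
import Groth.Agent.S1961
import Groth.Agent.S2736
import Groth.Agent.S9294
import Groth.Agent.S19379
import Groth.Agent.S0600
import Groth.Agent.GSchemeLib.Basic

/-!
# Formal fibres of henselizations
-/

set_option autoImplicit false
set_option linter.style.haveILetI false
set_option synthInstance.maxHeartbeats 400000
set_option maxHeartbeats 1600000

universe u

open TensorProduct IsLocalRing GeomRedFibLib CAlg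

namespace HensGRingLib

/-- A field receiving a surjection from a finite product of separable extensions is separable. -/
theorem isSeparable_of_pi_surjective {k L : Type u} [Field k] [Field L] [Algebra k L] {n : ℕ} {K : Fin n → Type u}
    [∀ i, Field (K i)] [∀ i, Algebra k (K i)] (hK : ∀ i, Algebra.IsSeparable k (K i))
    (g : (Π i, K i) →ₐ[k] L) (hg : Function.Surjective g) : Algebra.IsSeparable k L := by
  classical
  obtain ⟨i, hi⟩ : ∃ i, g (Pi.single i 1) ≠ 0 := by
    by_contra! h
    have h1 : g (1 : Π i, K i) = 0 := by
      rw [← Finset.univ_sum_single (1 : Π i, K i), map_sum]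
      exact Finset.sum_eq_zero fun i _ => h i
    exact one_ne_zero ((map_one g).symm.trans h1)
  have hone : g (Pi.single i 1) = 1 := by
    have h1 : g (Pi.single i 1) * g (Pi.single i 1) = g (Pi.single i 1) := by
      rw [← map_mul, ← Pi.single_mul, one_mul]
    exact mul_right_cancel₀ hi (h1.trans (one_mul _).symm)
  let φ : K i →ₐ[k] L :=
    { toFun := fun c => g (Pi.single i c)
      map_one' := hone
      map_mul' := fun a b => by rw [← map_mul, ← Pi.single_mul]
      map_zero' := by rw [Pi.single_zero, map_zero]
      map_add' := fun a b => by rw [← map_add, ← Pi.single_add]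
      commutes' := fun c => by
        show g (Pi.single i (algebraMap k (K i) c)) = algebraMap k L c
        rw [show Pi.single i (algebraMap k (K i) c) = Pi.single i (1 : K i) * algebraMap k (Π j, K j) c from
          funext fun j => by
            by_cases h : j = i
            · subst h; simp
            · simp [h]]
        rw [map_mul, hone, one_mul, AlgHom.commutes] }
  have hφ : Function.Surjective φ := fun z => by
    obtain ⟨x, rfl⟩ := hg z
    refine ⟨x i, ?_⟩
    show g (Pi.single i (x i)) = g x
    rw [show Pi.single i (x i) = Pi.single i (1 : K i) * x from funext fun j => by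
      by_cases h : j = i
      · subst h; simp
      · simp [h], map_mul, hone, one_mul]
  haveI := hK i
  exact AlgEquiv.Algebra.isSeparable (AlgEquiv.ofBijective φ ⟨φ.toRingHom.injective, hφ⟩)

section Hens

variable (R S : Type u) [CommRing R] [IsLocalRing R] [IsNoetherianRing R] [CommRing S] [IsLocalRing S] [Algebra R S]
  [IsLocalHom (algebraMap R S)] [Hensel.IsHenselization R S]

/-- The completions agree. -/
theorem exists_cplAlgEquiv_henselization : Nonempty (EGA4.Cpl R ≃ₐ[R] EGA4.Cpl S) := by
  haveI : Module.FaithfullyFlat R S := Groth.Agent.S0509.result R S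
  have hm := Groth.Agent.S0507.result R S
  refine exists_cplAlgEquiv R S hm fun n b => ?_
  obtain ⟨x, hx⟩ := (Groth.Agent.S0510.result R S n).2 (Ideal.Quotient.mk _ b)
  obtain ⟨a, rfl⟩ := Ideal.Quotient.mk_surjective x
  rw [Ideal.quotientMap_mk, Ideal.Quotient.eq, Ideal.map_pow, hm] at hx
  exact ⟨a, neg_sub (algebraMap R S a) b ▸ neg_mem hx⟩

/-- The formal fibres of the henselization are geometrically regular exactly when those of the ring are. -/
theorem isRegularHom_cpl_henselization_iff :
    IsRegularHom S (EGA4.Cpl S) ↔ IsRegularHom R (EGA4.Cpl R) := by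
  haveI : Module.FaithfullyFlat R S := Groth.Agent.S0509.result R S
  haveI : IsNoetherianRing S := (Groth.Agent.S0511.result R S).1 inferInstance
  haveI := GeomRedFibLib.isNoetherianRing_cpl R
  haveI := GeomRedFibLib.isNoetherianRing_cpl S
  haveI : Algebra.FormallyEtale R S := Groth.Agent.S1961.result R S
  obtain ⟨E⟩ := exists_cplAlgEquiv_henselization R S
  constructor
  · intro h
    refine isRegularHom_of_algEquiv E.symm ?_
    exact Groth.Agent.S9294.result R S (EGA4.Cpl S) (Groth.Agent.S19379.result R S) h
      fun p _ => isNoetherianRing_fiber R (EGA4.Cpl S) p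
  · intro h
    have h' := isRegularHom_of_algEquiv E h
    haveI : Module.FaithfullyFlat S (EGA4.Cpl S) := GeomRedFibLib.faithfullyFlat_hat S
    refine ⟨inferInstance, fun Q _ => ⟨isNoetherianRing_fiber S (EGA4.Cpl S) Q, ?_⟩⟩
    let p := Q.comap (algebraMap R S)
    letI : Algebra p.ResidueField Q.ResidueField := (Ideal.ResidueField.map p Q (algebraMap R S) rfl).toAlgebra
    haveI : IsScalarTower R p.ResidueField Q.ResidueField := .of_algebraMap_eq fun r ↦
      ((Ideal.ResidueField.map_algebraMap p Q _ rfl r).trans
        (IsScalarTower.algebraMap_apply R S Q.ResidueField r).symm).symm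
    obtain ⟨n, K, hF, hA, hsep, ⟨e⟩⟩ := Groth.Agent.S2736.result R S p
    haveI : IsReduced (p.Fiber S) := isReduced_of_injective e e.injective
    haveI : IsArtinianRing (Π i, K i) := inferInstance
    haveI : IsArtinianRing (p.Fiber S) := e.symm.surjective.isArtinianRing (f := e.symm.toRingEquiv.toRingHom)
    let g : p.Fiber S →ₐ[p.ResidueField] Q.ResidueField :=
      Algebra.TensorProduct.lift (Algebra.ofId _ _) (IsScalarTower.toAlgHom R S Q.ResidueField) fun _ _ => .all _ _
    haveI : Algebra.IsSeparable p.ResidueField Q.ResidueField := by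
      let G : (Π i, K i) →ₐ[p.ResidueField] Q.ResidueField := g.comp e.symm.toAlgHom
      have hfield : IsField G.range := by
        haveI : IsArtinianRing G.range :=
          Function.Surjective.isArtinianRing (f := G.rangeRestrict.toRingHom) G.rangeRestrict_surjective
        exact IsArtinianRing.isField_of_isDomain G.range
      let L := G.range.toIntermediateField' hfield
      refine isSeparable_of_pi_surjective hsep G fun z => ?_
      have hB : ∀ b, algebraMap S Q.ResidueField b ∈ L := fun b =>
        ⟨e ((1 : p.ResidueField) ⊗ₜ[R] b), by simp [G, g]⟩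
      obtain ⟨a, s, -, rfl⟩ := IsFractionRing.div_surjective (A := S ⧸ Q) z
      obtain ⟨a, rfl⟩ := Ideal.Quotient.mk_surjective a
      obtain ⟨s, rfl⟩ := Ideal.Quotient.mk_surjective s
      obtain ⟨u, hu⟩ := L.div_mem (hB a) (hB s)
      exact ⟨u, hu⟩
    exact isGeometricallyRegular_fiber_of_separable R S (EGA4.Cpl S) p Q (h'.2 p).2

end Hens

end HensGRingLib
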